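import Mathlib
import Groth.Agent.InjFibre.SliceAlg

/-!
Generalities used for the comparison of the index with the multiplicities of a special fibre:
lengths over local rings with trivial residue extension, localisations of quotients, and
permanence of a non zero divisor modulo a regular sequence.
-/

set_option autoImplicit false
set_option linter.style.haveILetI false

universe u

namespace Groth.Agent.IndexMult

open IsLocalRing RingTheory.Sequence

/-- Lengths do not change along a local homomorphism with surjective residue map. -/
theorem length_eq_of_residue_surjective (A B M : Type u) [CommRing A] [CommRing B] [IsLocalRing A]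
    [IsLocalRing B] [Algebra A B] [IsLocalHom (algebraMap A B)] [AddCommGroup M] [Module A M]
    [Module B M] [IsScalarTower A B M]
    (h : ∀ b : B, ∃ a : A, b - algebraMap A B a ∈ maximalIdeal B) :
    Module.length A M = Module.length B M := by
  have hs : Function.Surjective (algebraMap (ResidueField A) (ResidueField B)) := fun x => by
    obtain ⟨b, rfl⟩ := residue_surjective x
    obtain ⟨a, ha⟩ := h b
    refine ⟨residue A a, ?_⟩
    rw [ResidueField.algebraMap_residue, eq_comm, ← sub_eq_zero, ← map_sub]
    exact (residue_eq_zero_iff _).2 ha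
  have h1 : Module.length (ResidueField A) (ResidueField B) = 1 := by
    rw [Module.length_eq_of_surjective (M := ResidueField B) hs]
    exact Module.length_eq_one _ _
  rw [IsLocalRing.length_restrictScalars A B M, h1, mul_one]

/-- The localisation of a quotient at a prime. -/
theorem isLocalization_atPrime_quotient {A : Type u} [CommRing A] (I P : Ideal A) [P.IsPrime]
    (hIP : I ≤ P) (L : Type u) [CommRing L] [Algebra A L] [IsLocalization.AtPrime L P]
    [(P.map (Ideal.Quotient.mk I)).IsPrime] :
    IsLocalization.AtPrime (L ⧸ I.map (algebraMap A L)) (P.map (Ideal.Quotient.mk I)) := by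
  have h : Algebra.algebraMapSubmonoid (A ⧸ I) P.primeCompl =
      (P.map (Ideal.Quotient.mk I)).primeCompl := by
    ext x
    obtain ⟨a, rfl⟩ := Ideal.Quotient.mk_surjective x
    constructor
    · rintro ⟨b, hb, he⟩
      change Ideal.Quotient.mk I a ∉ _
      rw [← he]
      exact fun hm => hb ((Ideal.mem_quotient_iff_mem hIP).1 hm)
    · intro hx
      exact ⟨a, fun hm => hx (Ideal.mem_map_of_mem _ hm), rfl⟩
  change IsLocalization (P.map (Ideal.Quotient.mk I)).primeCompl _
  rw [← h]
  infer_instance

/-- An element regular on `L` stays regular modulo a sequence which is regular modulo the element. -/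
theorem mem_ofList_of_mul_mem {L : Type u} [CommRing L] {π : L} (hπ : IsSMulRegular L π) (ys : List L)
    (h : IsWeaklyRegular (L ⧸ Ideal.span {π}) (ys.map (Ideal.Quotient.mk (Ideal.span {π})))) :
    ∀ a, π * a ∈ Ideal.ofList ys → a ∈ Ideal.ofList ys := by
  suffices H : ∀ i ≤ ys.length, ∀ a, π * a ∈ Ideal.ofList (ys.take i) → a ∈ Ideal.ofList (ys.take i) by
    simpa using H ys.length le_rfl
  intro i
  induction i with
  | zero =>
    intro _ a ha
    rw [List.take_zero, Ideal.ofList_nil, Ideal.mem_bot] at ha ⊢
    exact hπ (by simpa using ha)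
  | succ i ih =>
    intro hi a ha
    have hi' : i < ys.length := hi
    rw [List.take_succ_eq_append_getElem hi', Ideal.ofList_append, Ideal.ofList_singleton] at ha ⊢
    obtain ⟨z, hz, w, hw, hzw⟩ := Submodule.mem_sup.1 ha
    obtain ⟨b, rfl⟩ := Ideal.mem_span_singleton'.1 hw
    have hreg := (InjFibre.isWeaklyRegular_ring_iff _).1 h i (by simpa using hi')
      (Ideal.Quotient.mk _ b) (by
        rw [List.getElem_map, ← map_mul, ← List.map_take, ← Ideal.map_ofList]
        have : Ideal.Quotient.mk (Ideal.span {π}) (ys[i] * b) =
            Ideal.Quotient.mk (Ideal.span {π}) (-z) := by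
          rw [Ideal.Quotient.eq]
          exact Ideal.mem_span_singleton'.2 ⟨a, by rw [mul_comm a, ← hzw]; ring⟩
        rw [this]
        exact Ideal.mem_map_of_mem _ (neg_mem hz))
    rw [← List.map_take, ← Ideal.map_ofList,
      Ideal.mem_map_iff_of_surjective _ Ideal.Quotient.mk_surjective] at hreg
    obtain ⟨z', hz', hbz⟩ := hreg
    obtain ⟨c, hc⟩ := Ideal.mem_span_singleton'.1 (Ideal.Quotient.eq.1 hbz.symm)
    have key : a - c * ys[i] ∈ Ideal.ofList (ys.take i) := by
      refine ih hi'.le _ ?_
      have : π * (a - c * ys[i]) = z + ys[i] * z' := by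
        linear_combination (-1 : L) * hzw - ys[i] * hc
      rw [this]
      exact add_mem hz (Ideal.mul_mem_left _ _ hz')
    exact Submodule.mem_sup.2 ⟨_, key, c * ys[i], Ideal.mem_span_singleton'.2 ⟨c, rfl⟩, sub_add_cancel _ _⟩

end Groth.Agent.IndexMult
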