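import Mathlib
import Groth.Agent.IndexMult.Basic
import Groth.Agent.SerreReg.CM
import Groth.Agent.SmLocalST.SmoothField
import Groth.Agent.RegLocus.Smooth

/-!
A point of an irreducible algebra over an algebraically closed field at which a system of
parameters of the reduction cuts out a scheme of length the multiplicity of the algebra.
-/

set_option autoImplicit false
set_option linter.style.haveILetI false
set_option linter.unusedSectionVars false
set_option synthInstance.maxHeartbeats 200000

universe u

namespace Groth.Agent.IndexMult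

open IsLocalRing RingTheory.Sequence CategoryTheory AlgebraicGeometry

section Section

variable {D S : Type u} [CommRing D] [CommRing S] [Algebra D S] (π : S →+* D)
  (hπ : ∀ d, π (algebraMap D S d) = d) (hker : ∀ x, π x = 0 → IsNilpotent x)
  (𝔮 : Ideal D) [𝔮.IsPrime]

include hπ in
theorem liesOver_comap : (𝔮.comap π).LiesOver 𝔮 :=
  ⟨Ideal.ext fun d => by rw [Ideal.mem_comap, Ideal.mem_comap, hπ]⟩

include hπ hker in
theorem isLocalization_comap :
    IsLocalization (Algebra.algebraMapSubmonoid S 𝔮.primeCompl) (Localization.AtPrime (𝔮.comap π)) := by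
  refine (IsLocalization.iff_of_le_of_exists_dvd (M := Algebra.algebraMapSubmonoid S 𝔮.primeCompl)
    (S := Localization.AtPrime (𝔮.comap π)) (𝔮.comap π).primeCompl ?_ ?_).2 inferInstance
  · rintro _ ⟨d, hd, rfl⟩
    change algebraMap D S d ∉ 𝔮.comap π
    rw [Ideal.mem_comap, hπ]
    exact hd
  · intro n hn
    obtain ⟨k, hk⟩ := hker (algebraMap D S (π n) - n) (by rw [map_sub, hπ, sub_self])
    have hn' : π n ∈ 𝔮.primeCompl := hn
    refine ⟨algebraMap D S (π n) ^ k, ⟨π n ^ k, pow_mem hn' k, map_pow _ _ _⟩, ?_⟩
    have := sub_dvd_pow_sub_pow (algebraMap D S (π n)) (algebraMap D S (π n) - n) k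
    rwa [hk, sub_zero, sub_sub_cancel] at this

include hπ hker in
theorem isLocalizedModule_comap :
    IsLocalizedModule 𝔮.primeCompl
      (IsScalarTower.toAlgHom D S (Localization.AtPrime (𝔮.comap π))).toLinearMap :=
  isLocalizedModule_iff_isLocalization.2 (isLocalization_comap π hπ hker 𝔮)

variable [(𝔮.comap π).LiesOver 𝔮] [Algebra (Localization.AtPrime 𝔮) (Localization.AtPrime (𝔮.comap π))]
  [Localization.AtPrime.IsLiesOverAlgebra 𝔮 (𝔮.comap π)]
  [IsScalarTower D (Localization.AtPrime 𝔮) (Localization.AtPrime (𝔮.comap π))]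

include hπ hker in
theorem finite_comap [Module.Finite D S] :
    Module.Finite (Localization.AtPrime 𝔮) (Localization.AtPrime (𝔮.comap π)) :=
  haveI := isLocalizedModule_comap π hπ hker 𝔮
  Module.Finite.of_isLocalizedModule 𝔮.primeCompl
    (IsScalarTower.toAlgHom D S (Localization.AtPrime (𝔮.comap π))).toLinearMap

include hπ hker in
theorem finrank_comap [IsDomain D] :
    Module.finrank (Localization.AtPrime 𝔮) (Localization.AtPrime (𝔮.comap π)) = Module.finrank D S := by
  haveI := isLocalizedModule_comap π hπ hker 𝔮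
  rw [IsLocalization.finrank_eq (Localization.AtPrime 𝔮) 𝔮.primeCompl 𝔮.primeCompl_le_nonZeroDivisors]
  exact IsLocalizedModule.finrank_eq 𝔮.primeCompl
    (IsScalarTower.toAlgHom D S (Localization.AtPrime (𝔮.comap π))).toLinearMap
    𝔮.primeCompl_le_nonZeroDivisors

include hπ in
theorem exists_sub_algebraMap_mem (b : Localization.AtPrime (𝔮.comap π)) :
    ∃ a : Localization.AtPrime 𝔮,
      b - algebraMap (Localization.AtPrime 𝔮) (Localization.AtPrime (𝔮.comap π)) a ∈
        maximalIdeal (Localization.AtPrime (𝔮.comap π)) := by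
  obtain ⟨x, u, rfl⟩ := IsLocalization.exists_mk'_eq (𝔮.comap π).primeCompl b
  have hu : π u.1 ∈ 𝔮.primeCompl := u.2
  refine ⟨IsLocalization.mk' _ (π x) ⟨π u.1, hu⟩, ?_⟩
  set L := Localization.AtPrime (𝔮.comap π)
  set a := IsLocalization.mk' (Localization.AtPrime 𝔮) (π x) ⟨π u.1, hu⟩
  set b := IsLocalization.mk' L x u
  set g : D → L := fun d => algebraMap S L (algebraMap D S d) with hg
  have hga : algebraMap (Localization.AtPrime 𝔮) L a * g (π u.1) = g (π x) := by
    have := congrArg (algebraMap (Localization.AtPrime 𝔮) L)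
      (IsLocalization.mk'_spec (Localization.AtPrime 𝔮) (π x) ⟨π u.1, hu⟩)
    rw [map_mul, ← IsScalarTower.algebraMap_apply, ← IsScalarTower.algebraMap_apply,
      IsScalarTower.algebraMap_apply D S L, IsScalarTower.algebraMap_apply D S L] at this
    exact this
  have hmem : ∀ y : S, algebraMap S L y - g (π y) ∈ maximalIdeal L := fun y => by
    rw [hg]
    dsimp only
    rw [← map_sub, IsLocalization.AtPrime.to_map_mem_maximal_iff L (𝔮.comap π), Ideal.mem_comap,
      map_sub, hπ, sub_self]
    exact zero_mem _
  have hbu : b * algebraMap S L u.1 = algebraMap S L x := IsLocalization.mk'_spec L x u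
  refine ((maximalIdeal.isMaximal L).isPrime.mem_or_mem (y := algebraMap S L u.1) ?_).resolve_right ?_
  · have : (b - algebraMap (Localization.AtPrime 𝔮) L a) * algebraMap S L u.1 =
        (algebraMap S L x - g (π x)) -
          algebraMap (Localization.AtPrime 𝔮) L a * (algebraMap S L u.1 - g (π u.1)) := by
      linear_combination hbu - hga
    rw [this]
    exact sub_mem (hmem x) (Ideal.mul_mem_left _ _ (hmem u.1))
  · rw [IsLocalization.AtPrime.to_map_mem_maximal_iff L (𝔮.comap π)]
    exact u.2

include hπ in
theorem isLocalHom_comap :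
    IsLocalHom (algebraMap (Localization.AtPrime 𝔮) (Localization.AtPrime (𝔮.comap π))) := by
  rw [Localization.AtPrime.IsLiesOverAlgebra.algebraMap_eq (p := 𝔮) (P := 𝔮.comap π)]
  infer_instance

include hπ in
theorem length_comap (M : Type u) [AddCommGroup M] [Module (Localization.AtPrime 𝔮) M]
    [Module (Localization.AtPrime (𝔮.comap π)) M]
    [IsScalarTower (Localization.AtPrime 𝔮) (Localization.AtPrime (𝔮.comap π)) M] :
    Module.length (Localization.AtPrime 𝔮) M = Module.length (Localization.AtPrime (𝔮.comap π)) M :=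
  haveI := isLocalHom_comap π hπ 𝔮
  length_eq_of_residue_surjective _ _ M (exists_sub_algebraMap_mem π hπ 𝔮)

end Section

theorem isRegularLocalRing_of_smooth (k S : Type u) [Field k] [CommRing S] [Algebra k S]
    [Algebra.Smooth k S] (Q : Ideal S) [Q.IsPrime] : IsRegularLocalRing (Localization.AtPrime Q) := by
  let f := Spec.map (CommRingCat.ofHom (algebraMap k S))
  haveI : Smooth f := (HasRingHomProperty.Spec_iff (P := @Smooth)).2 (RingHom.smooth_algebraMap.2 ‹_›)
  exact RegLocus.of_stalk (CommRingCat.of S) ⟨Q, ‹_›⟩ (SmLocalST.isRegularLocalRing_stalk_of_smooth_field f _)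

/-- The irreducible case with smooth reduction. -/
theorem exists_params (k S : Type u) [Field k] [CommRing S] [Algebra k S] [Algebra.FiniteType k S]
    [(nilradical S).IsPrime] [Algebra.Smooth k (S ⧸ nilradical S)] :
    ∃ (ℓ : ℕ) (m : Ideal S) (_ : m.IsMaximal) (ys : List (Localization.AtPrime m)),
      Module.length (Localization.AtPrime (nilradical S)) (Localization.AtPrime (nilradical S)) = ℓ ∧
      IsWeaklyRegular (Localization.AtPrime m) ys ∧
      Module.length (Localization.AtPrime m) (Localization.AtPrime m ⧸ Ideal.ofList ys) = ℓ := by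
  classical
  haveI : IsNoetherianRing S := Algebra.FiniteType.isNoetherianRing k S
  have hnil : IsNilpotent (nilradical S) := IsNoetherianRing.isNilpotent_nilradical S
  let D := S ⧸ nilradical S
  haveI : IsDomain D := Ideal.Quotient.isDomain _
  let s : D →ₐ[k] S := Algebra.FormallySmooth.lift (nilradical S) hnil (AlgHom.id k D)
  let π : S →+* D := Ideal.Quotient.mk (nilradical S)
  letI : Algebra D S := s.toRingHom.toAlgebra
  have hπ : ∀ d, π (algebraMap D S d) = d :=
    fun d => Algebra.FormallySmooth.mk_lift (nilradical S) hnil (AlgHom.id k D) d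
  have hker : ∀ x, π x = 0 → IsNilpotent x := fun x hx =>
    mem_nilradical.1 (Ideal.Quotient.eq_zero_iff_mem.1 hx)
  haveI : IsScalarTower k D S := IsScalarTower.of_algebraMap_eq fun r => (s.commutes r).symm
  haveI : Algebra.FiniteType D S := Algebra.FiniteType.of_restrictScalars_finiteType k D S
  haveI : Algebra.IsIntegral D S := ⟨fun x => by
    obtain ⟨n, hn⟩ := hker (x - algebraMap D S (π x)) (by rw [map_sub, hπ, sub_self])
    have h1 : IsIntegral D (x - algebraMap D S (π x)) :=
      IsIntegral.of_pow (Nat.succ_pos n) (by rw [pow_succ, hn, zero_mul]; exact isIntegral_zero)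
    simpa using h1.add (isIntegral_algebraMap (R := D) (A := S) (x := π x))⟩
  haveI : Module.Finite D S := Algebra.IsIntegral.finite
  haveI : IsNoetherianRing D := Algebra.FiniteType.isNoetherianRing k D
  haveI : Module.FinitePresentation D S := Module.finitePresentation_of_finite D S
  haveI : IsJacobsonRing D := isJacobsonRing_of_finiteType (A := k)
  haveI : JacobsonSpace (PrimeSpectrum D) := PrimeSpectrum.isJacobsonRing_iff_jacobsonSpace.1 ‹_›
  -- the generic point
  haveI hbot : (⊥ : Ideal D).IsPrime := Ideal.isPrime_bot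
  have hP : (⊥ : Ideal D).comap π = nilradical S := by rw [← RingHom.ker_eq_comap_bot, Ideal.mk_ker]
  haveI := liesOver_comap π hπ (⊥ : Ideal D)
  letI := Localization.AtPrime.algebraOfLiesOver (⊥ : Ideal D) ((⊥ : Ideal D).comap π)
  haveI := finite_comap π hπ hker (⊥ : Ideal D)
  let F := Localization.AtPrime (⊥ : Ideal D)
  haveI : IsFractionRing D F := by
    have : (⊥ : Ideal D).primeCompl = nonZeroDivisors D := by
      ext y
      simp [mem_nonZeroDivisors_iff_ne_zero]
    change IsLocalization (nonZeroDivisors D) F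
    rw [← this]
    infer_instance
  have hfree : ⟨⊥, hbot⟩ ∈ Module.freeLocus D S := by
    haveI := isLocalizedModule_comap π hπ hker (⊥ : Ideal D)
    rw [Module.mem_freeLocus_of_isLocalization (⟨⊥, hbot⟩ : PrimeSpectrum D) F
      (Localization.AtPrime ((⊥ : Ideal D).comap π))
      (IsScalarTower.toAlgHom D S (Localization.AtPrime ((⊥ : Ideal D).comap π))).toLinearMap]
    letI := (IsFractionRing.toField D : Field F)
    exact Module.Free.of_divisionRing _ _
  obtain ⟨x, hx, hxc⟩ := nonempty_inter_closedPoints (Z := Module.freeLocus D S) ⟨_, hfree⟩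
    Module.isOpen_freeLocus.isLocallyClosed
  haveI hxm : x.asIdeal.IsMaximal := (PrimeSpectrum.isClosed_singleton_iff_isMaximal x).1 hxc
  haveI := liesOver_comap π hπ x.asIdeal
  letI := Localization.AtPrime.algebraOfLiesOver x.asIdeal (x.asIdeal.comap π)
  haveI := finite_comap π hπ hker x.asIdeal
  have hm : (x.asIdeal.comap π).IsMaximal :=
    Ideal.comap_isMaximal_of_surjective π Ideal.Quotient.mk_surjective
  let Dn := Localization.AtPrime x.asIdeal
  let L := Localization.AtPrime (x.asIdeal.comap π)
  haveI : Module.Free Dn L := by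
    haveI := isLocalizedModule_comap π hπ hker x.asIdeal
    exact (Module.mem_freeLocus_of_isLocalization x Dn L
      (IsScalarTower.toAlgHom D S L).toLinearMap).1 hx
  haveI : IsRegularLocalRing Dn := isRegularLocalRing_of_smooth k D x.asIdeal
  obtain ⟨d, hd⟩ := Groth.Agent.SerreReg.exists_dim_nat Dn
  obtain ⟨rs, -, hreg, hspan⟩ := Groth.Agent.SerreReg.exists_regular_rsop d Dn hd
  have hlen : Module.length (Localization.AtPrime ((⊥ : Ideal D).comap π))
      (Localization.AtPrime ((⊥ : Ideal D).comap π)) = (Module.finrank D S : ℕ∞) := by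
    rw [← length_comap π hπ (⊥ : Ideal D), ← finrank_comap π hπ hker (⊥ : Ideal D)]
    letI := (IsFractionRing.toField D : Field F)
    exact Module.length_eq_finrank F _
  refine ⟨Module.finrank D S, x.asIdeal.comap π, hm, rs.map (algebraMap Dn L), ?_, ?_, ?_⟩
  · convert hlen <;> exact hP.symm
  · exact hreg.of_flat
  · rw [← Ideal.map_ofList, hspan, ← finrank_comap π hπ hker x.asIdeal, ← length_comap π hπ x.asIdeal,
      ← IsLocalRing.finrank_quotient_map (R := Dn) (S := L)]
    letI := Ideal.Quotient.field (maximalIdeal Dn)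
    rw [Module.length_eq_of_surjective (R := Dn ⧸ maximalIdeal Dn) (S := Dn)
      (M := L ⧸ (maximalIdeal Dn).map (algebraMap Dn L)) Ideal.Quotient.mk_surjective]
    exact Module.length_eq_finrank _ _

end Groth.Agent.IndexMult
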