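import Mathlib
import Groth.Prelude.Def_W4c5delpairindexchiIndex
import Groth.Agent.CycDim.DegBase
import Groth.Agent.CycDim.FibreDeg

/-!
The dimension of a finite algebra mapping to a scheme over a field lies in the index subgroup.
-/

set_option autoImplicit false
set_option linter.style.haveILetI false

universe u

namespace Groth.Agent.IndexMult

open CategoryTheory AlgebraicGeometry

theorem finrank_mem_indexSubgroup {K : Type u} [Field K] {X : Scheme.{u}} (f : X ⟶ Spec (CommRingCat.of K))
    [LocallyOfFiniteType f] (L : Type u) [CommRing L] [Algebra K L] [Module.Finite K L]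
    (g : Spec (CommRingCat.of L) ⟶ X)
    (h : g ≫ f = Spec.map (CommRingCat.ofHom (algebraMap K L))) :
    (Module.finrank K L : ℤ) ∈ Curv2.indexSubgroup f := by
  classical
  haveI : IsFinite (Spec.map (CommRingCat.ofHom (algebraMap K L))) :=
    (IsFinite.SpecMap_iff _).2 (RingHom.finite_algebraMap.2 ‹_›)
  haveI : Flat (Spec.map (CommRingCat.ofHom (algebraMap K L))) :=
    (HasRingHomProperty.Spec_iff (P := @Flat)).2 (RingHom.flat_algebraMap_iff.2 inferInstance)
  haveI : IsFinite (g ≫ f) := h ▸ inferInstance
  haveI : Flat (g ≫ f) := h ▸ inferInstance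
  let pt : Spec (CommRingCat.of K) := ⟨⊥, Ideal.isPrime_bot⟩
  obtain ⟨hfin, hne, hsum⟩ := CycFin.degree_finite_field (g ≫ f) pt
  have hrank : (g ≫ f).finrank pt = Module.finrank K L := by
    rw [h]
    exact (Scheme.Hom.finrank_SpecMap_algebraMap K L pt).trans (congrFun Module.rankAtStalk_eq_finrank_of_free pt)
  haveI : IsArtinianRing L := isArtinian_of_tower K inferInstance
  haveI : LocallyOfFiniteType g := locallyOfFiniteType_of_comp g f
  haveI : JacobsonSpace X := LocallyOfFiniteType.jacobsonSpace f
  haveI := hfin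
  letI := Fintype.ofFinite (Spec (CommRingCat.of L))
  rw [← hrank, ← hsum, finsum_eq_sum_of_fintype, Nat.cast_sum]
  refine AddSubgroup.sum_mem _ fun z _ => ?_
  have hz : IsClosed ({z} : Set (Spec (CommRingCat.of L))) :=
    (PrimeSpectrum.isClosed_singleton_iff_isMaximal z).2 (haveI := z.isPrime; haveI : IsArtinianRing (CommRingCat.of L) := ‹IsArtinianRing L›; IsArtinianRing.isMaximal_of_isPrime z.asIdeal)
  have hgz : IsClosed ({g z} : Set X) :=
    mem_closedPoints_iff.1 (g.closePoints_subset_preimage_closedPoints (mem_closedPoints_iff.2 hz))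
  rw [CycDeg.residueDegree_comp, Nat.cast_mul, Nat.cast_mul]
  have hmem := AddSubgroup.zsmul_mem _ (AddSubgroup.subset_closure
    (k := (fun x : X => (f.residueDegree x : ℤ)) '' {x : X | IsClosed ({x} : Set X)}) ⟨g z, hgz, rfl⟩)
    (((Module.length ((Spec (CommRingCat.of L)).presheaf.stalk z)
      ((Spec (CommRingCat.of L)).presheaf.stalk z)).toNat : ℤ) * (g.residueDegree z : ℤ))
  rw [zsmul_eq_mul, Int.cast_id] at hmem
  simp only [Curv2.indexSubgroup]
  convert hmem using 1
  ring

end Groth.Agent.IndexMult
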