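import Mathlib
import Groth.Agent.IndexMult.Core

/-!
Reduction to an irreducible algebra with smooth reduction by inverting one element.
-/

set_option autoImplicit false
set_option linter.style.haveILetI false
set_option linter.unusedSectionVars false
set_option synthInstance.maxHeartbeats 200000

universe u

namespace Groth.Agent.IndexMult

open IsLocalRing RingTheory.Sequence

theorem length_self_of_ringEquiv {L L' : Type u} [CommRing L] [CommRing L'] (e : L ≃+* L') :
    Module.length L L = Module.length L' L' := by
  apply WithBot.coe_injective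
  rw [Module.coe_length, Module.coe_length]
  exact Order.krullDim_eq_of_orderIso e.symm.idealComapOrderIso

theorem length_quotient_self {L : Type u} [CommRing L] (J : Ideal L) :
    Module.length L (L ⧸ J) = Module.length (L ⧸ J) (L ⧸ J) :=
  (Module.length_eq_of_surjective (R := L ⧸ J) (S := L) (M := L ⧸ J) Ideal.Quotient.mk_surjective)

theorem transfer_ringEquiv {L L' : Type u} [CommRing L] [CommRing L'] (e : L ≃+* L') (ys : List L)
    (h : IsWeaklyRegular L ys) :
    IsWeaklyRegular L' (ys.map e) ∧
      Module.length L' (L' ⧸ Ideal.ofList (ys.map e)) = Module.length L (L ⧸ Ideal.ofList ys) := by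
  refine ⟨(InjFibre.isWeaklyRegular_ring_iff _).2 fun i hi x hx => ?_, ?_⟩
  · rw [List.length_map] at hi
    have hx' : e.toRingHom (ys[i] * e.symm x) ∈ (Ideal.ofList (ys.take i)).map e.toRingHom := by
      rw [Ideal.map_ofList, List.map_take, map_mul]
      simpa using hx
    rw [← Ideal.mem_comap, Ideal.comap_map_of_bijective e.toRingHom e.bijective] at hx'
    have := Ideal.mem_map_of_mem e.toRingHom
      ((InjFibre.isWeaklyRegular_ring_iff _).1 h i hi _ hx')
    rw [Ideal.map_ofList, List.map_take] at this
    simpa using this
  · rw [length_quotient_self, length_quotient_self]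
    exact (length_self_of_ringEquiv (Ideal.quotientEquiv _ _ e (by
      rw [show (↑e : L →+* L') = e.toRingHom from rfl, Ideal.map_ofList]; rfl))).symm

/-- A reduced quotient by a prime is smooth after inverting any multiple of a good element. -/
theorem exists_smooth_multiples (k D : Type u) [Field k] [PerfectField k] [CommRing D] [IsDomain D]
    [Algebra k D] [Algebra.FiniteType k D] :
    ∃ g : D, g ≠ 0 ∧ ∀ (c : D) (T : Type u) [CommRing T] [Algebra D T] [Algebra k T] [IsScalarTower k D T]
      [IsLocalization.Away (g * c) T], Algebra.Smooth k T := by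
  haveI : Algebra.FinitePresentation k D := Algebra.FinitePresentation.of_finiteType.mp inferInstance
  haveI hbot : (⊥ : Ideal D).IsPrime := Ideal.isPrime_bot
  let F := Localization.AtPrime (⊥ : Ideal D)
  haveI : IsFractionRing D F := by
    have : (⊥ : Ideal D).primeCompl = nonZeroDivisors D := by
      ext y
      simp [mem_nonZeroDivisors_iff_ne_zero]
    change IsLocalization (nonZeroDivisors D) F
    rw [← this]
    infer_instance
  haveI : Algebra.EssFiniteType k F := Algebra.EssFiniteType.comp k D F
  haveI : Algebra.IsSmoothAt k (⊥ : Ideal D) := by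
    letI : Field F := IsFractionRing.toField D
    exact (inferInstance : Algebra.FormallySmooth k F)
  obtain ⟨g, hg, hs⟩ := Algebra.IsSmoothAt.exists_notMem_smooth k (⊥ : Ideal D)
  haveI := hs
  refine ⟨g, fun h => hg (h ▸ zero_mem _), fun c T _ _ _ _ _ => ?_⟩
  let U := Localization.Away g
  let V := Localization.Away (algebraMap D U c)
  haveI : IsLocalization.Away (g * c) V := IsLocalization.Away.mul' U V g c
  haveI : Algebra.Smooth k V := Algebra.Smooth.comp k U V
  exact Algebra.Smooth.of_equiv ((IsLocalization.algEquiv (Submonoid.powers (g * c)) V T).restrictScalars k)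

/-- A point at which a regular sequence cuts out a scheme of length the multiplicity of a
given minimal prime. -/
theorem exists_params_minimal (k S : Type u) [Field k] [PerfectField k] [CommRing S] [Algebra k S]
    [Algebra.FiniteType k S] (P : Ideal S) [P.IsPrime] (hP : P ∈ minimalPrimes S) :
    ∃ (ℓ : ℕ) (m : Ideal S) (_ : m.IsMaximal),
      Module.length (Localization.AtPrime P) (Localization.AtPrime P) = ℓ ∧
      ∀ (L : Type u) [CommRing L] [Algebra S L] [IsLocalization.AtPrime L m],
        ∃ ys : List L, IsWeaklyRegular L ys ∧ Module.length L (L ⧸ Ideal.ofList ys) = ℓ := by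
  classical
  haveI : IsNoetherianRing S := Algebra.FiniteType.isNoetherianRing k S
  obtain ⟨g, hg0, hg⟩ := exists_smooth_multiples k (S ⧸ P)
  obtain ⟨g, rfl⟩ := Ideal.Quotient.mk_surjective g
  have hgP : g ∉ P := fun hm => hg0 (Ideal.Quotient.eq_zero_iff_mem.2 hm)
  have hfin := minimalPrimes.finite_of_isNoetherianRing S
  obtain ⟨c, hcmem, hcP⟩ : ∃ c, c ∈ (hfin.toFinset.erase P).inf id ∧ c ∉ P := by
    by_contra hall
    push Not at hall
    obtain ⟨Q, hQ, hQP⟩ := (Ideal.IsPrime.inf_le' (P := P) inferInstance).1 hall
    rw [Finset.mem_erase, Set.Finite.mem_toFinset] at hQ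
    exact hQ.1 (le_antisymm hQP (hP.2 hQ.2.1 hQP))
  let h := g * c
  have hhP : h ∉ P := fun hm => (Ideal.IsPrime.mem_or_mem ‹_› hm).elim hgP hcP
  let S' := Localization.Away h
  have hdisj : Disjoint (Submonoid.powers h : Set S) ↑P := by
    rw [Set.disjoint_left]
    rintro _ ⟨n, rfl⟩ hm
    exact hhP (Ideal.IsPrime.mem_of_pow_mem ‹_› n hm)
  haveI hP' : (P.map (algebraMap S S')).IsPrime :=
    IsLocalization.isPrime_of_isPrime_disjoint (Submonoid.powers h) S' P inferInstance hdisj
  have hle : ∀ Q : Ideal S', Q.IsPrime → P.map (algebraMap S S') ≤ Q := fun Q hQ => by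
    have hd := ((IsLocalization.isPrime_iff_isPrime_disjoint (Submonoid.powers h) S' Q).1 hQ)
    haveI := hd.1
    obtain ⟨Q0, hQ0, hQ0le⟩ := Ideal.exists_minimalPrimes_le (bot_le : ⊥ ≤ Q.under S)
    rcases eq_or_ne Q0 P with rfl | hne
    · exact Ideal.map_le_iff_le_comap.2 hQ0le
    · refine absurd ?_ (Set.disjoint_left.1 hd.2 (Submonoid.mem_powers h))
      refine hQ0le (Ideal.mul_mem_left _ _ ?_)
      exact (Finset.inf_le (f := id) (Finset.mem_erase.2 ⟨hne, hfin.mem_toFinset.2 hQ0⟩)) hcmem
  have hnil : nilradical S' = P.map (algebraMap S S') := by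
    refine le_antisymm ?_ ?_
    · intro x hx
      rw [nilradical_eq_sInf] at hx
      exact Submodule.mem_sInf.1 hx _ hP'
    · rw [nilradical_eq_sInf]
      exact le_sInf hle
  haveI : (nilradical S').IsPrime := hnil ▸ hP'
  haveI : Algebra.Smooth k (S' ⧸ P.map (algebraMap S S')) := by
    haveI : IsLocalization.Away (Ideal.Quotient.mk P g * Ideal.Quotient.mk P c)
        (S' ⧸ P.map (algebraMap S S')) := by
      have h1 : Algebra.algebraMapSubmonoid (S ⧸ P) (Submonoid.powers h) =
          Submonoid.powers (Ideal.Quotient.mk P g * Ideal.Quotient.mk P c) := by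
        rw [Algebra.algebraMapSubmonoid, Submonoid.map_powers, ← map_mul]
        rfl
      change IsLocalization (Submonoid.powers _) _
      rw [← h1]
      infer_instance
    haveI : IsScalarTower k (S ⧸ P) (S' ⧸ P.map (algebraMap S S')) := IsScalarTower.of_algebraMap_eq fun r => by
      rw [IsScalarTower.algebraMap_apply k S' (S' ⧸ P.map (algebraMap S S')),
        IsScalarTower.algebraMap_apply k S S']
      rfl
    exact hg (Ideal.Quotient.mk P c) _
  haveI : Algebra.Smooth k (S' ⧸ nilradical S') :=
    Algebra.Smooth.of_equiv (Ideal.quotientEquivAlgOfEq k hnil).symm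
  haveI : Algebra.FiniteType k S' :=
    Algebra.FiniteType.trans (S := S) inferInstance inferInstance
  obtain ⟨ℓ, m', hm', ys, hlen, hreg, hq⟩ := exists_params k S'
  haveI : IsJacobsonRing S := isJacobsonRing_of_finiteType (A := k)
  have hm : (m'.under S).IsMaximal := ((IsLocalization.isMaximal_iff_isMaximal_disjoint S' h m').1 hm').1
  haveI : IsLocalization.AtPrime (Localization.AtPrime m') (m'.under S) :=
    IsLocalization.isLocalization_isLocalization_atPrime_isLocalization (Submonoid.powers h)
      (Localization.AtPrime m') m'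
  have hPu : (nilradical S').under S = P := by
    rw [hnil]
    exact IsLocalization.under_map_of_isPrime_disjoint (Submonoid.powers h) S' ‹_› hdisj
  haveI : IsLocalization.AtPrime (Localization.AtPrime (nilradical S')) P := by
    have : IsLocalization.AtPrime (Localization.AtPrime (nilradical S')) ((nilradical S').under S) :=
      IsLocalization.isLocalization_isLocalization_atPrime_isLocalization (Submonoid.powers h)
        (Localization.AtPrime (nilradical S')) (nilradical S')
    convert! this using 2
    exact hPu.symm
  refine ⟨ℓ, m'.under S, hm, ?_, fun L _ _ _ => ?_⟩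
  · rw [← hlen]
    exact length_self_of_ringEquiv
      (IsLocalization.algEquiv P.primeCompl (Localization.AtPrime P)
        (Localization.AtPrime (nilradical S'))).toRingEquiv
  · obtain ⟨h1, h2⟩ := transfer_ringEquiv
      (IsLocalization.algEquiv (m'.under S).primeCompl (Localization.AtPrime m') L).toRingEquiv ys hreg
    exact ⟨_, h1, h2.trans hq⟩

end Groth.Agent.IndexMult
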