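import Mathlib
import Groth.Agent.IndexMult.Reduce
import Groth.Agent.Hensel.LocalPiece

/-!
Over a henselian discrete valuation ring with algebraically closed residue field, a flat algebra
of finite type has a finite free quotient of a local ring of rank the multiplicity of a component
of its special fibre.
-/

set_option autoImplicit false
set_option linter.style.haveILetI false
set_option linter.unusedSectionVars false
set_option synthInstance.maxHeartbeats 200000
set_option maxHeartbeats 1000000
set_option backward.isDefEq.respectTransparency false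
set_option backward.isDefEq.respectTransparency.types false

universe u

namespace Groth.Agent.IndexMult

open IsLocalRing RingTheory.Sequence

/-- Elements of a local ring of a finite type algebra at a rational point, modulo the maximal ideal. -/
theorem exists_sub_mem_of_rational {R A : Type u} [CommRing R] [IsLocalRing R] [CommRing A] [Algebra R A]
    (𝔪 : Ideal A) [𝔪.IsPrime] (hlies : 𝔪.under R = maximalIdeal R)
    (hrat : ∀ a : A, ∃ r : R, a - algebraMap R A r ∈ 𝔪) (b : Localization.AtPrime 𝔪) :
    ∃ r : R, b - algebraMap R (Localization.AtPrime 𝔪) r ∈ maximalIdeal (Localization.AtPrime 𝔪) := by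
  revert b
  set L := Localization.AtPrime 𝔪
  intro b
  obtain ⟨x, u, hb⟩ := IsLocalization.exists_mk'_eq 𝔪.primeCompl b
  obtain ⟨r, hr⟩ := hrat x
  obtain ⟨r', hr'⟩ := hrat u.1
  have hr'u : IsUnit r' := by
    by_contra hn
    refine u.2 ?_
    rw [← sub_add_cancel u.1 (algebraMap R A r')]
    refine add_mem hr' ?_
    have : r' ∈ 𝔪.under R := hlies ▸ (mem_maximalIdeal r').2 hn
    exact this
  obtain ⟨v, rfl⟩ := hr'u
  refine ⟨r * ↑v⁻¹, ((maximalIdeal.isMaximal L).isPrime.mem_or_mem (y := algebraMap A L u.1) ?_).resolve_right ?_⟩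
  · have h1 : IsLocalization.mk' L x u * algebraMap A L u.1 = algebraMap A L x :=
      IsLocalization.mk'_spec L x u
    have h2 : algebraMap R A (r * ↑v⁻¹) * algebraMap R A ↑v = algebraMap R A r := by
      rw [← map_mul, mul_assoc, Units.inv_mul, mul_one]
    have h3 : (IsLocalization.mk' L x u - algebraMap R L (r * ↑v⁻¹)) * algebraMap A L u.1 =
        algebraMap A L ((x - algebraMap R A r) - algebraMap R A (r * ↑v⁻¹) * (u.1 - algebraMap R A ↑v)) := by
      rw [sub_mul, h1, IsScalarTower.algebraMap_apply R A L, ← map_mul, ← map_sub]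
      congr 1
      linear_combination -h2
    rw [← hb]
    rw [h3, IsLocalization.AtPrime.to_map_mem_maximal_iff L 𝔪]
    exact sub_mem hr (Ideal.mul_mem_left _ _ hr')
  · rw [IsLocalization.AtPrime.to_map_mem_maximal_iff L 𝔪]
    exact u.2

theorem rational_of_isMaximal (k S : Type u) [Field k] [IsAlgClosed k] [CommRing S] [Algebra k S]
    [Algebra.FiniteType k S] (m : Ideal S) [m.IsMaximal] (a : S) : ∃ c : k, a - algebraMap k S c ∈ m := by
  letI : Field (S ⧸ m) := Ideal.Quotient.field m
  haveI : Algebra.FiniteType k (S ⧸ m) :=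
    Algebra.FiniteType.of_surjective (Ideal.Quotient.mkₐ k m) Ideal.Quotient.mk_surjective
  haveI : Module.Finite k (S ⧸ m) := finite_of_finite_type_of_isJacobsonRing _ _
  obtain ⟨c, hc⟩ := IsAlgClosed.algebraMap_bijective_of_isIntegral (k := k) (K := S ⧸ m) |>.2
    (Ideal.Quotient.mk m a)
  refine ⟨c, Ideal.Quotient.eq.1 ?_⟩
  rw [← hc]
  rfl

theorem finrank_quotient_eq_of_length {R : Type u} [CommRing R] (m : Ideal R) [m.IsMaximal] (Q : Type u)
    [CommRing Q] [Algebra R Q] [Algebra (R ⧸ m) Q] [IsScalarTower R (R ⧸ m) Q] {ℓ : ℕ}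
    (h : Module.length R Q = ℓ) : Module.finrank (R ⧸ m) Q = ℓ := by
  have h1 : Module.length (R ⧸ m) Q = ℓ := by
    rw [← Module.length_eq_of_surjective (R := R ⧸ m) (S := R) (M := Q) Ideal.Quotient.mk_surjective, h]
  letI : Field (R ⧸ m) := Ideal.Quotient.field m
  haveI : Module.Finite (R ⧸ m) Q := by
    have : IsFiniteLength (R ⧸ m) Q := Module.length_ne_top_iff.1 (by rw [h1]; exact ENat.natCast_ne_top ℓ)
    haveI := (isFiniteLength_iff_isNoetherian_isArtinian.1 this).1
    infer_instance
  rw [Module.length_eq_finrank] at h1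
  exact_mod_cast h1

theorem exists_finiteFree {R : Type u} [CommRing R] [IsDomain R] [IsDiscreteValuationRing R]
    [HenselianLocalRing R] (hk : IsAlgClosed (ResidueField R)) {A : Type u} [CommRing A] [Algebra R A]
    [Algebra.FiniteType R A] [Module.Flat R A] (P : Ideal A) [P.IsPrime]
    (hP : P ∈ ((maximalIdeal R).map (algebraMap R A)).minimalPrimes) :
    ∃ (ℓ : ℕ) (M : Type u) (_ : CommRing M) (_ : Algebra R M),
      Module.Finite R M ∧ Module.Free R M ∧ Module.finrank R M = ℓ ∧ Nonempty (A →ₐ[R] M) ∧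
      Module.length
        (Localization.AtPrime P ⧸ ((maximalIdeal R).map (algebraMap R A)).map
          (algebraMap A (Localization.AtPrime P)))
        (Localization.AtPrime P ⧸ ((maximalIdeal R).map (algebraMap R A)).map
          (algebraMap A (Localization.AtPrime P))) = ℓ := by
  classical
  set I0 := (maximalIdeal R).map (algebraMap R A) with hI0
  letI : Field (R ⧸ maximalIdeal R) := Ideal.Quotient.field _
  haveI : IsAlgClosed (R ⧸ maximalIdeal R) := hk
  haveI : Algebra.FiniteType (R ⧸ maximalIdeal R) (A ⧸ I0) := by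
    haveI : Algebra.FiniteType R (A ⧸ I0) :=
      Algebra.FiniteType.of_surjective (Ideal.Quotient.mkₐ R I0) Ideal.Quotient.mk_surjective
    exact Algebra.FiniteType.of_restrictScalars_finiteType R _ _
  have hI0P : I0 ≤ P := hP.1.2
  haveI hPb : (P.map (Ideal.Quotient.mk I0)).IsPrime := Ideal.isPrime_map_quotientMk_of_isPrime hI0P
  have hPmin : P.map (Ideal.Quotient.mk I0) ∈ minimalPrimes (A ⧸ I0) := by
    refine ⟨⟨hPb, bot_le⟩, fun Q hQ hQle => ?_⟩
    haveI := hQ.1
    have hle : I0 ≤ Q.comap (Ideal.Quotient.mk I0) := fun x hx => by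
      rw [Ideal.mem_comap, Ideal.Quotient.eq_zero_iff_mem.2 hx]; exact zero_mem _
    have : P ≤ Q.comap (Ideal.Quotient.mk I0) := hP.2 ⟨inferInstance, hle⟩ fun x hx =>
      (Ideal.mem_quotient_iff_mem hI0P).1 (hQle hx)
    exact Ideal.map_le_iff_le_comap.2 this
  obtain ⟨ℓ, mb, hmb, hlen, hys⟩ := exists_params_minimal (R ⧸ maximalIdeal R) (A ⧸ I0) _ hPmin
  haveI := hmb
  -- the point on `A`
  set 𝔪 := mb.comap (Ideal.Quotient.mk I0) with h𝔪
  haveI h𝔪max : 𝔪.IsMaximal := Ideal.comap_isMaximal_of_surjective _ Ideal.Quotient.mk_surjective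
  have hI0𝔪 : I0 ≤ 𝔪 := fun x hx => by
    rw [h𝔪, Ideal.mem_comap, Ideal.Quotient.eq_zero_iff_mem.2 hx]; exact zero_mem _
  have hmbe : 𝔪.map (Ideal.Quotient.mk I0) = mb :=
    Ideal.map_comap_of_surjective _ Ideal.Quotient.mk_surjective mb
  haveI : (𝔪.map (Ideal.Quotient.mk I0)).IsPrime := hmbe.symm ▸ hmb.isPrime
  have hlies : 𝔪.under R = maximalIdeal R :=
    ((maximalIdeal.isMaximal R).eq_of_le (Ideal.IsPrime.comap _).ne_top
      (Ideal.map_le_iff_le_comap.1 hI0𝔪)).symm
  have hrat : ∀ a : A, ∃ r : R, a - algebraMap R A r ∈ 𝔪 := fun a => by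
    obtain ⟨c, hc⟩ := rational_of_isMaximal (R ⧸ maximalIdeal R) (A ⧸ I0) mb (Ideal.Quotient.mk I0 a)
    obtain ⟨r, rfl⟩ := Ideal.Quotient.mk_surjective c
    exact ⟨r, by rw [h𝔪, Ideal.mem_comap, map_sub]; exact hc⟩
  let La := Localization.AtPrime 𝔪
  set J0 := I0.map (algebraMap A La) with hJ0
  haveI : IsLocalization.AtPrime (La ⧸ J0) mb := by
    have := isLocalization_atPrime_quotient I0 𝔪 hI0𝔪 La
    convert! this using 2
    exact hmbe.symm
  obtain ⟨zs, hzreg, hzlen⟩ := hys (La ⧸ J0)
  obtain ⟨ys, rfl⟩ : ∃ ys : List La, ys.map (Ideal.Quotient.mk J0) = zs :=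
    ⟨zs.map (Function.surjInv Ideal.Quotient.mk_surjective), by
      rw [List.map_map]
      conv_rhs => rw [← List.map_id zs]
      exact List.map_congr_left fun z _ => Function.surjInv_eq Ideal.Quotient.mk_surjective z⟩
  -- the uniformiser
  obtain ⟨ϖ, hϖ⟩ := IsDiscreteValuationRing.exists_irreducible R
  have hI0π : I0 = Ideal.span {algebraMap R A ϖ} := by
    change Ideal.map (algebraMap R A) (maximalIdeal R) = _
    rw [hϖ.maximalIdeal_eq, Ideal.map_span, Set.image_singleton]
  have hJ0π : J0 = Ideal.span {algebraMap R La ϖ} :=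
    (congrArg (Ideal.map (algebraMap A La)) hI0π).trans (by
      rw [Ideal.map_span, Set.image_singleton, ← IsScalarTower.algebraMap_apply])
  have hπreg : IsSMulRegular La (algebraMap R La ϖ) := by
    haveI : Module.Flat R La := Module.Flat.trans R A La
    intro a b hab
    refine (IsSMulRegular.of_right_eq_zero_of_smul (M := La) (r := ϖ) fun x hx => ?_) ?_
    · haveI : Module.IsTorsionFree R La := Module.Flat.isTorsionFree
      exact (smul_eq_zero.1 hx).resolve_left hϖ.ne_zero
    · simpa [Algebra.smul_def] using hab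
  set J := Ideal.ofList ys with hJdef
  have hregM : ∀ a, algebraMap R La ϖ * a ∈ J → a ∈ J := by
    refine mem_ofList_of_mul_mem hπreg ys ?_
    rw [← hJ0π]
    exact hzreg
  have hJle : J ≤ maximalIdeal La := by
    refine IsLocalRing.le_maximalIdeal fun htop => ?_
    have hz : Ideal.ofList (ys.map (Ideal.Quotient.mk J0)) = ⊤ := by
      rw [← Ideal.map_ofList, ← hJdef, htop, Ideal.map_top]
    rw [hz] at hzlen
    have h0 : ℓ = 0 := by
      haveI : Subsingleton ((La ⧸ J0) ⧸ (⊤ : Ideal (La ⧸ J0))) := Ideal.Quotient.subsingleton_iff.2 rfl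
      exact_mod_cast hzlen.symm.trans Module.length_eq_zero
    subst h0
    have : Nontrivial (Localization.AtPrime (P.map (Ideal.Quotient.mk I0))) := inferInstance
    exact Module.length_pos.ne' (by exact_mod_cast hlen)
  -- the algebra `B` and its local ring
  set I := J.under A with hI
  have hIJ : I.map (algebraMap A La) = J := IsLocalization.map_under 𝔪.primeCompl La J
  have hI𝔪 : I ≤ 𝔪 := fun x hx => (IsLocalization.AtPrime.to_map_mem_maximal_iff La 𝔪 x).1 (hJle hx)
  haveI hq : (𝔪.map (Ideal.Quotient.mk I)).IsPrime := Ideal.isPrime_map_quotientMk_of_isPrime hI𝔪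
  set q := 𝔪.map (Ideal.Quotient.mk I) with hqdef
  have hqlies : q.under R = maximalIdeal R := by
    rw [← hlies, hqdef]
    ext r
    exact Ideal.mem_quotient_iff_mem hI𝔪
  haveI : q.LiesOver (maximalIdeal R) := ⟨hqlies.symm⟩
  haveI : Algebra.FiniteType R (A ⧸ I) :=
    Algebra.FiniteType.of_surjective (Ideal.Quotient.mkₐ R I) Ideal.Quotient.mk_surjective
  haveI hlocM : IsLocalization.AtPrime (La ⧸ I.map (algebraMap A La)) q :=
    isLocalization_atPrime_quotient I 𝔪 hI𝔪 La
  let M := La ⧸ I.map (algebraMap A La)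
  haveI : IsScalarTower R (A ⧸ I) M := IsScalarTower.of_algebraMap_eq fun r => by
    rw [IsScalarTower.algebraMap_apply R A (A ⧸ I), IsScalarTower.algebraMap_apply R A M]
    rfl
  haveI : Nontrivial M := Ideal.Quotient.nontrivial_iff.2 fun htop =>
    (maximalIdeal.isMaximal La).ne_top (top_le_iff.1 (htop ▸ (hIJ ▸ hJle)))
  haveI : IsLocalRing M := IsLocalRing.of_surjective' (Ideal.Quotient.mk _) Ideal.Quotient.mk_surjective
  haveI : IsLocalHom (algebraMap R M) := by
    refine ((IsLocalRing.local_hom_TFAE (algebraMap R M)).out 0 4).2 ?_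
    refine ((maximalIdeal.isMaximal R).eq_of_le (Ideal.IsPrime.comap _).ne_top fun r hr => ?_).symm
    rw [Ideal.mem_comap, mem_maximalIdeal]
    intro hu
    have h1 : algebraMap R La r ∈ maximalIdeal La := by
      rw [IsScalarTower.algebraMap_apply R A La, IsLocalization.AtPrime.to_map_mem_maximal_iff La 𝔪]
      exact (hlies ▸ hr : r ∈ 𝔪.under R)
    haveI := IsLocalHom.of_surjective (Ideal.Quotient.mk (I.map (algebraMap A La))) Ideal.Quotient.mk_surjective
    exact h1 (IsLocalHom.map_nonunit (f := Ideal.Quotient.mk (I.map (algebraMap A La))) _ hu)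
  have hres : ∀ b : M, ∃ r : R, b - algebraMap R M r ∈ maximalIdeal M := fun b => by
    obtain ⟨b, rfl⟩ := Ideal.Quotient.mk_surjective b
    obtain ⟨r, hr⟩ := exists_sub_mem_of_rational 𝔪 hlies hrat b
    refine ⟨r, ?_⟩
    rw [mem_maximalIdeal] at hr ⊢
    intro hu
    haveI := IsLocalHom.of_surjective (Ideal.Quotient.mk (I.map (algebraMap A La))) Ideal.Quotient.mk_surjective
    exact hr (IsLocalHom.map_nonunit (f := Ideal.Quotient.mk (I.map (algebraMap A La))) _
      (by rw [map_sub]; exact hu))
  -- the closed fibre of `M`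
  set mM := (maximalIdeal R).map (algebraMap R M) with hmM
  have hfib : Module.length M (M ⧸ mM) = ℓ := by
    rw [length_quotient_self mM, ← hzlen, length_quotient_self]
    suffices e : (M ⧸ mM) ≃+* ((La ⧸ J0) ⧸ Ideal.ofList (ys.map (Ideal.Quotient.mk J0))) from
      length_self_of_ringEquiv (L := M ⧸ mM)
        (L' := (La ⧸ J0) ⧸ Ideal.ofList (ys.map (Ideal.Quotient.mk J0))) e
    have e1 : mM = (J0).map (Ideal.Quotient.mk (I.map (algebraMap A La))) := by
      change (maximalIdeal R).map (algebraMap R M) =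
        (((maximalIdeal R).map (algebraMap R A)).map (algebraMap A La)).map _
      rw [Ideal.map_map, Ideal.map_map]
      rfl
    refine (Ideal.quotEquivOfEq e1).trans ((DoubleQuot.quotQuotEquivComm _ _).trans
      (Ideal.quotEquivOfEq ?_))
    rw [hIJ, hJdef, Ideal.map_ofList]
  have hlenR : Module.length R (M ⧸ mM) = ℓ := by
    rw [length_eq_of_residue_surjective R M (M ⧸ mM) hres, hfib]
  haveI hfinfib : Module.Finite R (M ⧸ mM) := by
    have : IsFiniteLength R (M ⧸ mM) := Module.length_ne_top_iff.1 (by rw [hlenR]; exact ENat.natCast_ne_top ℓ)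
    haveI := (isFiniteLength_iff_isNoetherian_isArtinian.1 this).1
    infer_instance
  haveI : Algebra.QuasiFiniteAt R q := by
    haveI : Algebra.WeaklyQuasiFiniteAt R q := by
      rw [Algebra.weaklyQuasiFiniteAt_iff, hqlies]
      let e : M ≃ₐ[R] Localization.AtPrime q :=
        (IsLocalization.algEquiv q.primeCompl M (Localization.AtPrime q)).restrictScalars R
      haveI : Algebra.QuasiFinite R (M ⧸ mM) := inferInstance
      have H : mM ≤ ((maximalIdeal R).map (algebraMap R (Localization.AtPrime q))).comap e.toAlgHom := by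
        refine Ideal.map_le_iff_le_comap.2 fun r hr => ?_
        rw [Ideal.mem_comap, Ideal.mem_comap, AlgHom.commutes]
        exact Ideal.mem_map_of_mem _ hr
      exact Algebra.QuasiFinite.of_surjective_algHom (S := M ⧸ mM)
        (Ideal.quotientMapₐ _ e.toAlgHom H) (Ideal.quotientMap_surjective (H := H) e.surjective)
    exact Algebra.QuasiFiniteAt.of_weaklyQuasiFiniteAt q
  haveI : Module.Finite R M := by
    haveI := Groth.Agent.Hensel.finite_atPrime R (A ⧸ I) q
    exact Module.Finite.equiv
      ((IsLocalization.algEquiv q.primeCompl M (Localization.AtPrime q)).restrictScalars R).symm.toLinearEquiv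
  haveI : Module.IsTorsionFree R M := by
    refine Module.isTorsionFree_iff_smul_eq_zero.2 fun r x hx => ?_
    rcases eq_or_ne r 0 with hr | hr
    · exact Or.inl hr
    right
    obtain ⟨n, u, rfl⟩ := IsDiscreteValuationRing.eq_unit_mul_pow_irreducible hr hϖ
    replace hx : ϖ ^ n • x = 0 := by
      have h1 := congrArg (fun y => (↑u⁻¹ : R) • y) hx
      simpa [smul_smul] using h1
    clear hr
    induction n generalizing x with
    | zero => simpa using hx
    | succ n ih =>
      rw [pow_succ', mul_smul] at hx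
      obtain ⟨y, hy⟩ := Ideal.Quotient.mk_surjective (ϖ ^ n • x)
      refine ih _ ?_
      rw [← hy] at hx ⊢
      replace hx : Ideal.Quotient.mk (I.map (algebraMap A La)) (algebraMap R La ϖ * y) = 0 := by
        rw [← Algebra.smul_def]
        exact hx
      rw [Ideal.Quotient.eq_zero_iff_mem, hIJ] at hx
      rw [Ideal.Quotient.eq_zero_iff_mem, hIJ]
      exact hregM y hx
  haveI : Module.Free R M := inferInstance
  refine ⟨ℓ, M, inferInstance, inferInstance, inferInstance, inferInstance, ?_,
    ⟨(Ideal.Quotient.mkₐ R _).comp (IsScalarTower.toAlgHom R A La)⟩, ?_⟩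
  · rw [← IsLocalRing.finrank_quotient_map (R := R) (S := M)]
    exact finrank_quotient_eq_of_length (maximalIdeal R) (M ⧸ (maximalIdeal R).map (algebraMap R M)) hlenR
  · rw [← hlen]
    haveI : IsLocalization.AtPrime
        (Localization.AtPrime P ⧸ I0.map (algebraMap A (Localization.AtPrime P)))
        (P.map (Ideal.Quotient.mk I0)) :=
      isLocalization_atPrime_quotient I0 P hI0P (Localization.AtPrime P)
    exact (length_self_of_ringEquiv (IsLocalization.algEquiv (P.map (Ideal.Quotient.mk I0)).primeCompl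
      (Localization.AtPrime (P.map (Ideal.Quotient.mk I0)))
      (Localization.AtPrime P ⧸ I0.map (algebraMap A (Localization.AtPrime P)))).toRingEquiv).symm

end Groth.Agent.IndexMult
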